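import Groth.Agent.L25.HomScheme.QuasiIso
import Groth.Agent.L25.Extend.EtaleSplit
import Groth.Agent.L25.Locus.CentNorm
import Groth.Agent.L16.TwSep.Basic
import Groth.Agent.L26.Neron.Formal
import Groth.Agent.L08.GQuot.Struct
import Groth.Agent.S5248
import Groth.Prelude.Def_RedSub

/-!
# The quotient of the normaliser of a subgroup of multiplicative type by its centraliser
-/

set_option autoImplicit false
universe u

open CategoryTheory CategoryTheory.Limits MonoidalCategory CartesianMonoidalCategory AlgebraicGeometry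
open scoped MonObj

set_option backward.isDefEq.respectTransparency.types false
set_option linter.style.haveILetI false

noncomputable section

namespace Groth.L24.WeylQuot

open Groth.L25

variable {S : Scheme.{u}} {H G Z N : Over S} [GrpObj H] [GrpObj G] [GrpObj Z] [GrpObj N]

/-- the scheme of endomorphisms of a group of multiplicative type and of finite type -/
theorem exists_endScheme (hH : SGA3x.IsMultTypeFT H) :
    ∃ (E : Over S) (υ : H ⊗ E ⟶ H), AutFam.RepresentsHom H H E υ ∧ IsSeparated E.hom ∧ Etale E.hom := by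
  have hG := Extend.exists_etale_split hH
  obtain ⟨E, υ, hE, hloc⟩ := HomScheme.exists_twConst H H (fun s => by
    obtain ⟨T, f, hf, hs, M, inst, -, e⟩ := hG s
    exact ⟨T, f, hf, hs, M, inst, e⟩) hG
  have htw : TwC.IsTwConst TwC.Topology.etale E := fun s => by
    obtain ⟨R, _, j, M, M', _, _, _, _, _, het, hs, m, sq, -⟩ := hloc s
    exact ⟨_, j, het, hs, ULift.{u} (M' →* M), ⟨(Over.isoMk sq.isoPullback sq.isoPullback_hom_snd).symm⟩⟩
  exact ⟨E, υ, hE, Groth.L16.TwSep.isSeparated htw, TwConst.etale_of_fppf (TwConst.fppf_of_etale htw)⟩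

/-- the normaliser is smooth and affine -/
theorem props_normalizer (hH : SGA3x.IsMultTypeFT H) (hG : Smooth G.hom) (hGa : IsAffineHom G.hom) (i : H ⟶ G)
    [IsMonHom i] [Mono i] (k : N ⟶ G) (hk : Red.IsNormalizerOf i k) : Smooth N.hom ∧ IsAffineHom N.hom := by
  haveI := hGa
  haveI := Locus.isClosedImmersion_normalizer hH i k hk
  refine ⟨?_, by rw [← Over.w k]; infer_instance⟩
  obtain ⟨N', _, k', hk', -, hsm⟩ := Groth.Agent.S5248.result H G hH hG hGa i
  haveI := hk.2.1; haveI := hk'.2.1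
  obtain ⟨e, -⟩ := Locus.exists_iso_of_points k k' fun X g => (hk.2.2 X g).trans (hk'.2.2 X g).symm
  haveI := hsm
  haveI : IsIso e.hom.left := ((Over.forget S).mapIso e).isIso_hom
  rw [← Over.w e.hom]
  infer_instance

/-- the normaliser acts on the subgroup by conjugation -/
theorem exists_conjFamily (i : H ⟶ G) [IsMonHom i] [Mono i] (k : N ⟶ G) (hk : Red.IsNormalizerOf i k) :
    ∃ φ : H ⊗ N ⟶ H, AutFam.IsHomFamily H H φ ∧ ∀ (X : Over S) (h : X ⟶ H) (n : X ⟶ N),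
      (lift h n ≫ φ) ≫ i = (n ≫ k) * (h ≫ i) * (n ≫ k)⁻¹ := by
  obtain ⟨φ, hφ⟩ := ((hk.2.2 N k).1 ⟨𝟙 N, Category.id_comp k⟩ (H ⊗ N) (snd H N) (fst H N)).1
  have hc : ∀ (X : Over S) (h : X ⟶ H) (n : X ⟶ N), (lift h n ≫ φ) ≫ i = (n ≫ k) * (h ≫ i) * (n ≫ k)⁻¹ := by
    intro X h n
    rw [Category.assoc, ← hφ, MonObj.comp_mul, MonObj.comp_mul, GrpObj.comp_inv, lift_fst_assoc, lift_snd_assoc]
  refine ⟨φ, fun X g₁ g₂ t => ?_, hc⟩
  rw [← cancel_mono i, MonObj.mul_comp, hc, hc, hc, MonObj.mul_comp]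
  group

/-- the quotient of the normaliser by the centraliser -/
theorem exists_quotient (hH : SGA3x.IsMultTypeFT H) (hG : Smooth G.hom) (hGa : IsAffineHom G.hom) (i : H ⟶ G)
    [IsMonHom i] [Mono i] (j : Z ⟶ G) (k : N ⟶ G) (hj : Red.IsCentralizerOf i j) (hk : Red.IsNormalizerOf i k)
    (f : Z ⟶ N) [IsMonHom f] (hf : f ≫ k = j) :
    ∃ (W : Over S) (_ : GrpObj W) (q : N ⟶ W) (_ : IsMonHom q), RedSub.IsQuotient f q ∧
      IsSeparated W.hom ∧ Etale W.hom ∧ QuasiCompact W.hom := by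
  haveI := hk.1; haveI := hk.2.1; haveI := hj.1; haveI := hj.2.1
  haveI : Mono (f ≫ k) := hf ▸ hj.2.1
  haveI : Mono f := mono_of_mono f k
  obtain ⟨hNs, hNa⟩ := props_normalizer hH hG hGa i k hk
  haveI := hNs; haveI := hNa
  obtain ⟨E, υ, hE, hEsep, hEet⟩ := exists_endScheme hH
  haveI := hEsep; haveI := hEet
  obtain ⟨φ, hφ, hc⟩ := exists_conjFamily i k hk
  obtain ⟨θ, hθ, -⟩ := hE.2 N φ hφ
  have hpt : ∀ {X X' : Over S} (a : X ⟶ N) (x : X' ⟶ X) (h : X' ⟶ H),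
      (lift h x ≫ (H ◁ (a ≫ θ)) ≫ υ) ≫ i = (x ≫ a ≫ k) * (h ≫ i) * (x ≫ a ≫ k)⁻¹ := by
    intro X X' a x h
    rw [MonoidalCategory.whiskerLeft_comp, Category.assoc (H ◁ a), hθ, lift_whiskerLeft_assoc, hc, Category.assoc]
  have heq : ∀ {X : Over S} (a b : X ⟶ N), a ≫ θ = b ≫ θ ↔ ∃ z : X ⟶ Z, z ≫ f = a⁻¹ * b := by
    intro X a b
    have hz : (∃ z : X ⟶ Z, z ≫ f = a⁻¹ * b) ↔ ∃ z : X ⟶ Z, z ≫ j = (a ≫ k)⁻¹ * (b ≫ k) := by
      refine exists_congr fun z => ?_
      rw [← cancel_mono k, Category.assoc, hf, MonObj.mul_comp, GrpObj.inv_comp]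
    rw [hz, hj.2.2]
    constructor
    · intro e X' x h
      have h1 := congrArg (fun m => (lift h x ≫ (H ◁ m) ≫ υ) ≫ i) e
      simp only [hpt] at h1
      rw [MonObj.comp_mul, GrpObj.comp_inv]
      calc (x ≫ a ≫ k)⁻¹ * (x ≫ b ≫ k) * (h ≫ i)
          = (x ≫ a ≫ k)⁻¹ * ((x ≫ b ≫ k) * (h ≫ i) * (x ≫ b ≫ k)⁻¹) * (x ≫ b ≫ k) := by group
        _ = (h ≫ i) * ((x ≫ a ≫ k)⁻¹ * (x ≫ b ≫ k)) := by rw [← h1]; group
    · intro e
      refine (hE.2 X ((H ◁ (a ≫ θ)) ≫ υ) fun Y g₁ g₂ t => ?_).unique rfl ?_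
      · simp only [lift_whiskerLeft_assoc]; exact hE.1 Y g₁ g₂ (t ≫ a ≫ θ)
      · rw [← cancel_mono i]
        have h1 := hpt a (snd H X) (fst H X)
        have h2 := hpt b (snd H X) (fst H X)
        rw [lift_fst_snd, Category.id_comp] at h1 h2
        rw [h1, h2]
        have h3 := e (H ⊗ X) (snd H X) (fst H X)
        rw [MonObj.comp_mul, GrpObj.comp_inv] at h3
        set A := snd H X ≫ a ≫ k
        set B := snd H X ≫ b ≫ k
        set C := fst H X ≫ i
        calc B * C * B⁻¹ = A * (A⁻¹ * B * C) * B⁻¹ := by group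
          _ = A * C * A⁻¹ := by rw [h3]; group
  have hnorm : AlgGrp.IsNormalHom f := by
    intro T g n
    have hn := (hj.2.2 T (n ≫ j)).1 ⟨n, rfl⟩
    obtain ⟨z, hz⟩ := (hj.2.2 T ((g * (n ≫ f) * g⁻¹) ≫ k)).2 fun X' x h => by
      obtain ⟨h', hh'⟩ := ((hk.2.2 T (g ≫ k)).1 ⟨g, rfl⟩ X' x h).2
      have h1 := hn X' x h'
      rw [MonObj.mul_comp, MonObj.mul_comp, GrpObj.inv_comp, Category.assoc, hf, MonObj.comp_mul,
        MonObj.comp_mul, GrpObj.comp_inv]
      rw [← hh'] at h1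
      set A := x ≫ g ≫ k
      set B := x ≫ n ≫ j
      set C := h ≫ i
      calc A * B * A⁻¹ * C = A * (B * (A⁻¹ * C * A)) * A⁻¹ := by group
        _ = C * (A * B * A⁻¹) := by rw [h1]; group
    exact ⟨z, by rw [← cancel_mono k, Category.assoc, hf, hz]⟩
  -- the image
  haveI : Smooth (θ.left ≫ E.hom) := by rw [Over.w θ]; exact hNs
  haveI : Smooth θ.left := Groth.Agent.NeronL.smooth_of_comp_etale θ.left E.hom
  let U : E.left.Opens := ⟨Set.range θ.left, θ.left.isOpenMap.isOpen_range⟩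
  let W : Over S := Over.mk (U.ι ≫ E.hom)
  let q₀ : N.left ⟶ U.toScheme := IsOpenImmersion.lift U.ι θ.left (by rw [Scheme.Opens.range_ι]; exact subset_rfl)
  have hq₀ : q₀ ≫ U.ι = θ.left := IsOpenImmersion.lift_fac _ _ _
  let q : N ⟶ W := Over.homMk q₀ (by show q₀ ≫ U.ι ≫ E.hom = N.hom; rw [reassoc_of% hq₀, Over.w])
  let incl : W ⟶ E := Over.homMk U.ι rfl
  haveI : Mono U.ι := inferInstance
  haveI : Mono incl := Over.mono_of_mono_left incl
  have hqι : q ≫ incl = θ := Over.OverMorphism.ext hq₀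
  haveI : Smooth (q₀ ≫ U.ι) := by rw [hq₀]; infer_instance
  haveI : Smooth q.left := Groth.Agent.NeronL.smooth_of_comp_etale q₀ U.ι
  haveI hqsurj : Surjective q.left := ⟨fun y => by
    obtain ⟨a, ha⟩ := y.2
    refine ⟨a, Subtype.ext ?_⟩
    show (q₀ ≫ U.ι) a = y.1
    rw [hq₀]; exact ha⟩
  have hrel : ∀ {X : Over S} (a b : X ⟶ N), a ≫ q = b ≫ q ↔ ∃ z : X ⟶ Z, z ≫ f = a⁻¹ * b := fun {X} a b => by
    rw [← cancel_mono incl, Category.assoc, Category.assoc, hqι, heq]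
  have hmul : ∀ {X : Over S} (p : X ⟶ N ⊗ Z),
      p ≫ (N ◁ f) ≫ μ[N] = (p ≫ fst N Z) * ((p ≫ snd N Z) ≫ f) := fun p => by
    rw [Hom.mul_def, ← Category.assoc p]
    congr 1
    ext <;> simp
  have hmul' : ∀ {X : Over S} (p : X ⟶ Z ⊗ N),
      p ≫ (f ▷ N) ≫ μ[N] = ((p ≫ fst Z N) ≫ f) * (p ≫ snd Z N) := fun p => by
    rw [Hom.mul_def, ← Category.assoc p]
    congr 1
    ext <;> simp
  have sq : IsPullback (fst N Z) ((N ◁ f) ≫ μ[N]) q q := by
    refine ⟨⟨(hrel _ _).2 ⟨snd N Z, ?_⟩⟩, ⟨PullbackCone.IsLimit.mk _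
      (fun s => lift s.fst ((hrel _ _).1 s.condition).choose) (fun s => lift_fst _ _) (fun s => ?_)
      (fun s m hm₁ hm₂ => ?_)⟩⟩
    · have h := hmul (𝟙 (N ⊗ Z))
      simp only [Category.id_comp] at h
      rw [h, inv_mul_cancel_left]
    · rw [hmul, lift_fst, lift_snd, ((hrel _ _).1 s.condition).choose_spec, mul_inv_cancel_left]
    · refine CartesianMonoidalCategory.hom_ext _ _ (hm₁.trans (lift_fst _ _).symm) ?_
      rw [lift_snd, ← cancel_mono f, ((hrel _ _).1 s.condition).choose_spec, ← hm₂, hmul, hm₁, inv_mul_cancel_left]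
  have hrel' : ∀ {X : Over S} (a b : X ⟶ N), a ≫ q = b ≫ q ↔ ∃ z : X ⟶ Z, a = (z ≫ f) * b := fun {X} a b => by
    rw [hrel]
    constructor
    · rintro ⟨z, hz⟩
      obtain ⟨z', hz'⟩ := hnorm X a z
      refine ⟨z'⁻¹, ?_⟩
      rw [GrpObj.inv_comp, ← hz', hz]
      group
    · rintro ⟨z, rfl⟩
      obtain ⟨z', hz'⟩ := hnorm X b⁻¹ z⁻¹
      refine ⟨z', ?_⟩
      rw [← hz', GrpObj.inv_comp]
      group
  have sq' : IsPullback ((f ▷ N) ≫ μ[N]) (snd Z N) q q := by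
    refine ⟨⟨(hrel' _ _).2 ⟨fst Z N, ?_⟩⟩, ⟨PullbackCone.IsLimit.mk _
      (fun s => lift ((hrel' _ _).1 s.condition).choose s.snd) (fun s => ?_) (fun s => lift_snd _ _)
      (fun s m hm₁ hm₂ => ?_)⟩⟩
    · have h := hmul' (𝟙 (Z ⊗ N))
      simp only [Category.id_comp] at h
      exact h
    · rw [hmul', lift_fst, lift_snd]
      exact ((hrel' _ _).1 s.condition).choose_spec.symm
    · refine CartesianMonoidalCategory.hom_ext _ _ ?_ (hm₂.trans (lift_snd _ _).symm)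
      rw [lift_fst, ← cancel_mono f]
      have h := hm₁.trans ((hrel' _ _).1 s.condition).choose_spec
      rw [hmul', hm₂] at h
      exact mul_right_cancel h
  obtain ⟨inst, hq, -⟩ := Groth.L08.GQuot.exists_grp hnorm q sq'
  letI := inst
  refine ⟨W, inst, q, hq, ⟨inferInstance, inferInstance, inferInstance, sq⟩, ?_, ?_, ?_⟩
  · show IsSeparated (U.ι ≫ E.hom); infer_instance
  · show Etale (U.ι ≫ E.hom); infer_instance
  · haveI : QuasiCompact (q.left ≫ W.hom) := by rw [Over.w q]; infer_instance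
    refine (quasiCompact_iff W.hom).2 fun V hV hV' => ?_
    have := (QuasiCompact.isCompact_preimage (f := q.left ≫ W.hom) V hV hV').image q.left.continuous
    rwa [show (q.left ≫ W.hom).base ⁻¹' V = q.left.base ⁻¹' (W.hom.base ⁻¹' V) from rfl,
      Set.image_preimage_eq _ q.left.surjective] at this

end Groth.L24.WeylQuot
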